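import Groth.Agent.CurveNorm.Basic

/-!
The function field of the normalization of an integral scheme of finite type over a field in a finite
extension of its function field.
-/

set_option linter.style.haveILetI false
set_option backward.isDefEq.respectTransparency false
universe u

open CategoryTheory AlgebraicGeometry TopologicalSpace IsLocalRing

namespace Groth.Agent.CurveNorm

variable {X : Scheme.{u}} [IsIntegral X] {K : Type u} [Field K] (φ : X.functionField →+* K)
  (g : Spec (CommRingCat.of K) ⟶ X)

/-- The function field of the normalization in a finite extension `K` is `K`. -/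
theorem exists_functionField_equiv (hφ : φ.Finite)
    (hg : g = Spec.map (CommRingCat.ofHom φ) ≫ X.fromSpecStalk (genericPoint X))
    [QuasiCompact g] [QuasiSeparated g] {U₀ : X.Opens} (hU₀ : IsAffineOpen U₀) [Nonempty U₀] :
    ∃ θ : g.normalization.functionField ≃+* K,
      ∀ (U : X.Opens) [Nonempty U] (hmem : genericPoint g.normalization ∈ g.fromNormalization ⁻¹ᵁ U) (a : Γ(X, U)),
        θ (g.normalization.presheaf.germ (g.fromNormalization ⁻¹ᵁ U) _ hmem (g.fromNormalization.app U a)) =
          φ (X.germToFunctionField U a) := by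
  let R := CommRingCat.of K
  let h := g.toNormalization
  have hpt : h (closedPoint (CommRingCat.of K)) = genericPoint g.normalization := by
    refine ((genericPoint_spec g.normalization).eq ?_).symm
    show closure {h (closedPoint (CommRingCat.of K))} = Set.univ
    haveI : Subsingleton (PrimeSpectrum K) := inferInstance
    have hr : Set.range h = {h (closedPoint (CommRingCat.of K))} := by
      ext z
      refine ⟨fun ⟨w, hw⟩ => ?_, fun hz => ⟨_, hz.symm⟩⟩
      rw [← hw, Set.mem_singleton_iff]
      congr 1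
      exact Subsingleton.elim (α := PrimeSpectrum K) _ _
    rw [← hr]
    exact h.denseRange.closure_range
  let θ₀ : g.normalization.functionField ⟶ R :=
    (g.normalization.presheaf.stalkCongr (.of_eq hpt.symm)).hom ≫ Scheme.stalkClosedPointTo h
  have hθ : ∀ (V : g.normalization.Opens) (hV : genericPoint g.normalization ∈ V),
      g.normalization.presheaf.germ V _ hV ≫ θ₀ =
        g.normalization.presheaf.germ V _ (hpt ▸ hV) ≫ Scheme.stalkClosedPointTo h := fun V hV => by
    simp only [θ₀, TopCat.Presheaf.stalkCongr_hom, ← Category.assoc]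
    exact congrArg (· ≫ _) (TopCat.Presheaf.germ_stalkSpecializes _ _ _)
  have hcomp : h ≫ g.fromNormalization = g := g.toNormalization_fromNormalization
  have hkey : ∀ (U : X.Opens) [Nonempty U] (hmem : genericPoint g.normalization ∈ g.fromNormalization ⁻¹ᵁ U),
      g.fromNormalization.app U ≫ g.normalization.presheaf.germ _ _ hmem ≫ θ₀ =
        X.germToFunctionField U ≫ CommRingCat.ofHom φ := fun U _ hmem => by
    rw [hθ]
    have h1 : (h ≫ g.fromNormalization) (closedPoint (CommRingCat.of K)) ∈ U := by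
      show g.fromNormalization (h (closedPoint (CommRingCat.of K))) ∈ U
      rw [hpt]; exact hmem
    have e1 : X.presheaf.germ U _ h1 ≫ Scheme.stalkClosedPointTo (h ≫ g.fromNormalization) =
        X.germToFunctionField U ≫ CommRingCat.ofHom φ := by
      have hmem' : genericPoint X ∈ U :=
        ((genericPoint_spec X).mem_open_set_iff U.isOpen).mpr (by simpa using Set.nonempty_coe_sort.1 ‹_›)
      revert h1
      rw [hcomp, hg]
      intro h1
      exact Scheme.germ_stalkClosedPointTo_Spec_fromSpecStalk (CommRingCat.ofHom φ) U h1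
    rw [← e1, Scheme.stalkClosedPointTo_comp]
    exact (Scheme.Hom.germ_stalkMap_assoc _ U _ _ _).symm
  suffices hs : Function.Surjective θ₀.hom by
    refine ⟨RingEquiv.ofBijective θ₀.hom ⟨θ₀.hom.injective, hs⟩, fun U _ hmem a => ?_⟩
    exact congrArg (fun m => m.hom a) (hkey U hmem)
  -- surjectivity, over the affine open `U₀`
  letI := (g.app U₀).hom.toAlgebra
  let π := g.fromNormalization
  have hη : genericPoint g.normalization ∈ π ⁻¹ᵁ U₀ := by
    show π _ ∈ U₀
    rw [← hpt, ← Scheme.Hom.comp_apply, hcomp, hg, Scheme.Hom.comp_apply]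
    exact (Scheme.range_fromSpecStalk.le ⟨_, rfl⟩ : _ ⤳ genericPoint X).mem_open U₀.isOpen
      (((genericPoint_spec X).mem_open_set_iff U₀.isOpen).mpr (by simpa using Set.nonempty_coe_sort.1 ‹_›))
  have e2 := Scheme.germ_stalkClosedPointTo h (π ⁻¹ᵁ U₀) (hpt ▸ hη)
  rw [g.toNormalization_app_preimage ⟨U₀, hU₀⟩, ← hθ _ hη, Category.assoc, Category.assoc] at e2
  obtain ⟨ρ, hρ, e4⟩ : ∃ ρ : Γ(Spec (CommRingCat.of K), g ⁻¹ᵁ U₀) ⟶ R, IsIso ρ ∧
      g.normalization.presheaf.germ (π ⁻¹ᵁ U₀) _ hη ≫ θ₀ =
        (g.normalizationObjIso hU₀).hom ≫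
          CommRingCat.ofHom (integralClosure Γ(X, U₀) Γ(Spec (CommRingCat.of K), g ⁻¹ᵁ U₀)).val.toRingHom ≫ ρ :=
    ⟨_, inferInstance, e2⟩
  have e3 := hkey U₀ hη
  rw [e4, g.fromNormalization_app hU₀] at e3
  simp only [Category.assoc, Iso.inv_hom_id_assoc] at e3
  letI : Algebra X.functionField K := φ.toAlgebra
  haveI : FiniteDimensional X.functionField K := hφ
  letI : Algebra Γ(X, U₀) K := (φ.comp (X.germToFunctionField U₀).hom).toAlgebra
  haveI : IsScalarTower Γ(X, U₀) X.functionField K := IsScalarTower.of_algebraMap_eq fun _ => rfl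
  haveI := functionField_isFractionRing_of_isAffineOpen X U₀ hU₀
  let ψ : Γ(Spec (CommRingCat.of K), g ⁻¹ᵁ U₀) ≃ₐ[Γ(X, U₀)] K :=
    AlgEquiv.ofRingEquiv (f := (asIso ρ).commRingCatIsoToRingEquiv) fun a => congrArg (fun m => m.hom a) e3
  have himg : ∀ b : integralClosure Γ(X, U₀) K, (b : K) ∈ θ₀.hom.range := fun b => by
    obtain ⟨c, hc⟩ := ψ.mapIntegralClosure.surjective b
    refine ⟨g.normalization.presheaf.germ (π ⁻¹ᵁ U₀) _ hη ((g.normalizationObjIso hU₀).inv c), ?_⟩
    refine (congrArg (fun m => m.hom ((g.normalizationObjIso hU₀).inv c)) e4).trans ?_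
    have h3 : (g.normalizationObjIso hU₀).hom ((g.normalizationObjIso hU₀).inv c) = c :=
      congrArg (fun m => m.hom c) (g.normalizationObjIso hU₀).inv_hom_id
    subst hc
    exact (congrArg (fun w => ρ.hom ((integralClosure Γ(X, U₀) Γ(Spec (CommRingCat.of K), g ⁻¹ᵁ U₀)).val w)) h3).trans rfl
  intro z
  haveI := integralClosure.isFractionRing_of_finite_extension (A := Γ(X, U₀)) X.functionField K
  obtain ⟨a, b, -, hab⟩ := IsFractionRing.div_surjective (integralClosure Γ(X, U₀) K) z
  obtain ⟨za, hza⟩ := himg a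
  obtain ⟨zb, hzb⟩ := himg b
  refine ⟨za / zb, ?_⟩
  rw [map_div₀, hza, hzb]
  exact hab

end Groth.Agent.CurveNorm
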