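import Groth.Agent.N2Field.Basic
import Mathlib.AlgebraicGeometry.Normalization
import Mathlib.AlgebraicGeometry.FunctionField
import Mathlib.AlgebraicGeometry.Morphisms.Finite
import Mathlib.AlgebraicGeometry.Morphisms.FiniteType
import Mathlib.RingTheory.Ideal.GoingUp

/-!
Normalization of an integral scheme of finite type over a field in a finite extension of its function field.
-/

set_option linter.style.haveILetI false
universe u

open CategoryTheory AlgebraicGeometry TopologicalSpace

namespace Groth.Agent.CurveNorm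

/-- Primes of height one stay of height one in an integral extension of domains. -/
theorem height_eq_one {A B : Type u} [CommRing A] [IsDomain A] [CommRing B] [IsDomain B] [Algebra A B]
    [Algebra.IsIntegral A B] (hinj : Function.Injective (algebraMap A B)) (P : Ideal B) [P.IsPrime]
    (h : (P.comap (algebraMap A B)).height = 1) : P.height = 1 := by
  have hA : ∀ Q : Ideal A, Q.IsPrime → Q < P.comap (algebraMap A B) → Q = ⊥ := fun Q hQ hlt => by
    have h1 := (Ideal.height_le_iff (n := 1)).1 h.le Q hQ hlt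
    rwa [Nat.cast_one, Order.lt_one_iff, Ideal.height_eq_zero_iff_eq_bot] at h1
  refine le_antisymm ((Ideal.height_le_iff (n := 1)).2 fun q hq hlt => ?_) ?_
  · obtain ⟨x, hxP, hxq⟩ := SetLike.exists_of_lt hlt
    have hcomap := Ideal.comap_lt_comap_of_integral_mem_sdiff (R := A) hlt.le ⟨hxP, hxq⟩ (Algebra.IsIntegral.isIntegral x)
    rw [Ideal.eq_bot_of_comap_eq_bot (R := A) (hA _ inferInstance hcomap), Ideal.height_bot]
    exact zero_lt_one
  · rw [Order.one_le_iff_pos]
    refine pos_iff_ne_zero.2 fun h0 => ?_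
    rw [Ideal.height_eq_zero_iff_eq_bot] at h0
    subst h0
    rw [Ideal.comap_bot_of_injective _ hinj, Ideal.height_bot] at h
    exact zero_ne_one h

variable {X : Scheme.{u}} [IsIntegral X] {K : Type u} [Field K] (φ : X.functionField →+* K)
  (g : Spec (CommRingCat.of K) ⟶ X)

theorem exists_equiv (hg : g = Spec.map (CommRingCat.ofHom φ) ≫ X.fromSpecStalk (genericPoint X))
    (U : X.Opens) [Nonempty U] :
    ∃ e : Γ(Spec (CommRingCat.of K), g ⁻¹ᵁ U) ≅ CommRingCat.of K,
      g.app U ≫ e.hom = X.germToFunctionField U ≫ CommRingCat.ofHom φ := by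
  have hmem : genericPoint X ∈ U :=
    ((genericPoint_spec X).mem_open_set_iff U.isOpen).mpr (by simpa using Set.nonempty_coe_sort.1 ‹_›)
  have htop : g ⁻¹ᵁ U = ⊤ := by
    refine eq_top_iff.2 fun z _ => ?_
    show g z ∈ U
    rw [hg]
    exact (Scheme.range_fromSpecStalk.le ⟨_, rfl⟩ : _ ⤳ genericPoint X).mem_open U.isOpen hmem
  refine ⟨(Spec (CommRingCat.of K)).presheaf.mapIso (eqToIso htop.symm).op ≪≫ Scheme.ΓSpecIso _, ?_⟩
  rw [Scheme.Hom.congr_app hg U, Scheme.Hom.comp_app, Scheme.fromSpecStalk_app hmem]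
  simp only [Iso.trans_hom, Functor.mapIso_hom, Iso.op_hom, eqToIso.hom, Category.assoc, eqToHom_op]
  refine (Category.assoc _ _ _).trans ?_
  congr 1
  refine (Category.assoc _ _ _).trans ?_
  refine (Iso.inv_comp_eq _).2 ?_
  refine (Category.assoc _ _ _).trans ?_
  refine (Scheme.Hom.naturality_assoc (Spec.map (CommRingCat.ofHom φ)) _ _).trans ?_
  refine Eq.trans ?_ (Scheme.ΓSpecIso_naturality (CommRingCat.ofHom φ))
  congr 1

/-- The normalization in a finite extension of the function field is, over an affine open, given by a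
finite algebra which is a normal domain. -/
theorem facts (k : Type u) [Field k] [X.Over (Spec (CommRingCat.of k))]
    [LocallyOfFiniteType (X ↘ (Spec (CommRingCat.of k)))] (hφ : φ.Finite)
    (hg : g = Spec.map (CommRingCat.ofHom φ) ≫ X.fromSpecStalk (genericPoint X))
    {U : X.Opens} (hU : IsAffineOpen U) [Nonempty U] :
    letI := (g.app U).hom.toAlgebra
    Module.Finite Γ(X, U) (integralClosure Γ(X, U) Γ(Spec (CommRingCat.of K), g ⁻¹ᵁ U)) ∧
      IsDomain (integralClosure Γ(X, U) Γ(Spec (CommRingCat.of K), g ⁻¹ᵁ U)) ∧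
      IsIntegrallyClosed (integralClosure Γ(X, U) Γ(Spec (CommRingCat.of K), g ⁻¹ᵁ U)) ∧
      Function.Injective (algebraMap Γ(X, U) (integralClosure Γ(X, U) Γ(Spec (CommRingCat.of K), g ⁻¹ᵁ U))) := by
  letI := (g.app U).hom.toAlgebra
  obtain ⟨e, he⟩ := exists_equiv φ g hg U
  letI : Algebra X.functionField K := φ.toAlgebra
  haveI : FiniteDimensional X.functionField K := hφ
  letI : Algebra Γ(X, U) K := (φ.comp (X.germToFunctionField U).hom).toAlgebra
  haveI : IsScalarTower Γ(X, U) X.functionField K := IsScalarTower.of_algebraMap_eq fun _ => rfl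
  haveI := functionField_isFractionRing_of_isAffineOpen X U hU
  let S := Spec (CommRingCat.of k)
  let σ := (X ↘ S).appLE ⊤ U (by simp)
  letI : Algebra k Γ(X, U) := (σ.hom.comp (Scheme.ΓSpecIso (CommRingCat.of k)).inv.hom).toAlgebra
  haveI : Algebra.FiniteType k Γ(X, U) := by
    rw [← RingHom.finiteType_algebraMap, RingHom.algebraMap_toAlgebra]
    exact ((X ↘ S).finiteType_appLE (isAffineOpen_top S) hU _).comp
      (RingHom.FiniteType.of_surjective _ (Scheme.ΓSpecIso (CommRingCat.of k)).symm.commRingCatIsoToRingEquiv.surjective)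
  let ψ : Γ(Spec (CommRingCat.of K), g ⁻¹ᵁ U) ≃ₐ[Γ(X, U)] K :=
    AlgEquiv.ofRingEquiv (f := e.commRingCatIsoToRingEquiv) fun a => congrArg (fun h => h.hom a) he
  let ψ' := ψ.mapIntegralClosure
  haveI := N2Field.finite_integralClosure k Γ(X, U) X.functionField K
  haveI : IsIntegrallyClosed (integralClosure Γ(X, U) K) :=
    integralClosure.isIntegrallyClosedOfFiniteExtension (R := Γ(X, U)) X.functionField
  refine ⟨Module.Finite.equiv ψ'.symm.toLinearEquiv, ψ'.toRingEquiv.toMulEquiv.isDomain _,
    IsIntegrallyClosed.of_equiv ψ'.symm.toRingEquiv, fun a b h => ?_⟩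
  have h1 : algebraMap Γ(X, U) K a = algebraMap Γ(X, U) K b := by
    rw [← ψ.commutes a, ← ψ.commutes b]
    exact congrArg ψ (congrArg Subtype.val h)
  exact X.germToFunctionField_injective U (φ.injective h1)

end Groth.Agent.CurveNorm
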